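import Groth.Agent.L16.RelExt.Leray
import Groth.Agent.L22.ExtSh.Coherence
import Groth.Agent.L17.SSClass
import Groth.Agent.L17.CohClass
import Groth.Agent.L17.ProperCoh
import Groth.Agent.L16.CohKernel
import Groth.Agent.L16.ProjSpace.Basic

/-!
# Relative Ext sheaves along proper morphisms are coherent
-/

set_option autoImplicit false
set_option backward.isDefEq.respectTransparency false
set_option linter.style.haveILetI false
universe u

open CategoryTheory CategoryTheory.Limits AlgebraicGeometry Opposite TopologicalSpace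

noncomputable section

namespace Groth.L16.RelExt

open Groth.L17.ChangeRings (homMod)

variable {X Y : Scheme.{u}}

theorem isFlasque_homMod (F I : X.Modules) [ModSite.HasSheafHom (O := X.sheaf) F] [Injective I] :
    TopCat.Sheaf.IsFlasque (Coh.toAb ((homMod F).obj I)) := by
  refine ⟨fun {U V} i => ?_⟩
  rw [AddCommGrpCat.epi_iff_surjective]
  exact surjective_res_homMod F I _ _ (leOfHom i.unop)

theorem isThick_isCoh [IsLocallyNoetherian X] : Groth.L17.SSClass.IsThick fun M : X.Modules => Coh.IsCoh M where
  zero _ h := Groth.L29.DC.RHomC.isCoh_of_isZero h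
  iso e h := Groth.L16.CohSupport.isCoh_of_iso e h
  ker f h h' := (Groth.L16.CohKernel.isCoh_kernel_cokernel h h' f).1
  coker f h h' := (Groth.L16.CohKernel.isCoh_kernel_cokernel h h' f).2
  ext S hS := Groth.L17.CohClass.isCoh_of_shortExact S hS

theorem isCoh_relExt (f : X ⟶ Y) [IsProper f] [IsLocallyNoetherian Y] (F G : X.Modules) (hF : Coh.IsCoh F)
    (hG : Coh.IsCoh G) [ModSite.HasSheafHom (O := X.sheaf) F] [HasInjectiveResolutions (ModSite.Mod X.sheaf)]
    [(ModSite.sheafHom (O := X.sheaf) F ⋙ Scheme.Modules.pushforward f).Additive] (p : ℕ) :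
    Coh.IsCoh (((ModSite.sheafHom (O := X.sheaf) F ⋙ Scheme.Modules.pushforward f).rightDerived p).obj G) := by
  haveI : IsLocallyNoetherian X := LocallyOfFiniteType.isLocallyNoetherian f
  haveI : HasInjectiveResolutions X.Modules := ‹HasInjectiveResolutions (ModSite.Mod X.sheaf)›
  haveI : (Scheme.Modules.pushforward f).IsRightAdjoint :=
    (Scheme.Modules.pullbackPushforwardAdjunction f).isRightAdjoint
  let S := Scheme.Modules.pushforward f
  haveI : S.Additive := (Scheme.Modules.pullbackPushforwardAdjunction f).right_adjoint_additive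
  haveI : (homMod F ⋙ S).Additive := ‹(ModSite.sheafHom (O := X.sheaf) F ⋙ Scheme.Modules.pushforward f).Additive›
  haveI : EnoughInjectives X.Modules :=
    haveI := Groth.L00.Tensor.grothendieckAbelian_modules X
    inferInstance
  letI := HasDerivedCategory.standard X.Modules
  obtain ⟨E, a, hfin, -, hE⟩ := Groth.L17.GrothSS.exists_spectralSequence (homMod F) S (fun Q hQ q hq => by
    obtain ⟨k, rfl⟩ : ∃ k, q = k + 1 := ⟨q - 1, by omega⟩
    haveI : Injective (C := X.Modules) Q := hQ
    exact Groth.L17.PushQCoh.isZero_Rpush_of_flasque f _ (isFlasque_homMod F Q) k) G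
  have h := Groth.L17.SSClass.abutment_mem (isThick_isCoh (X := Y)) a (p : ℤ) (p : ℤ) le_rfl (hfin _)
    (fun i j hij => by
      obtain ⟨e⟩ := hE i j
      rw [if_neg hij] at e
      exact (isZero_zero _).of_iso e)
    (fun i j _ => by
      obtain ⟨e⟩ := hE i j
      by_cases hij : 0 ≤ i ∧ 0 ≤ j
      · rw [if_pos hij] at e
        exact Groth.L16.CohSupport.isCoh_of_iso e.symm (Groth.L17.ProperCoh.isCoh_Rpush f _
          (Groth.L22.ExtSh.isCoh_extSh hF hG j.toNat) i.toNat)
      · rw [if_neg hij] at e
        exact Groth.L29.DC.RHomC.isCoh_of_isZero ((isZero_zero _).of_iso e))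
  rw [if_pos (Int.natCast_nonneg p), Int.toNat_natCast] at h
  exact h

end Groth.L16.RelExt
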