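import Groth.Agent.L28.LocCoh.Shift

/-!
# Derived functors of a composite when the derived functors of the first are acyclic for the second
-/

set_option autoImplicit false
set_option linter.style.haveILetI false
set_option linter.unusedSectionVars false

universe v v' v'' u u' u''

open CategoryTheory CategoryTheory.Limits

namespace Groth.L16.RelExt.AcyclicComp

variable {C : Type u} [Category.{v} C] [Abelian C] [EnoughInjectives C]
  {C' : Type u'} [Category.{v'} C'] [Abelian C'] [EnoughInjectives C']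
  {D : Type u''} [Category.{v''} D] [Abelian D]
  (T : C ⥤ C') [T.Additive] [PreservesFiniteLimits T] (S : C' ⥤ D) [S.Additive] [PreservesFiniteLimits S]

/-- No higher derived functors. -/
abbrev Acyc (M : C') : Prop := ∀ q : ℕ, 0 < q → IsZero ((S.rightDerived q).obj M)

theorem acyc_of_iso {M M' : C'} (e : M ≅ M') (h : Acyc S M) : Acyc S M' :=
  fun q hq => (h q hq).of_iso ((S.rightDerived q).mapIso e).symm

theorem acyc_X₃ {W : ShortComplex C'} (hW : W.ShortExact) (h₁ : Acyc S W.X₁) (h₂ : Acyc S W.X₂) :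
    Acyc S W.X₃ := by
  intro q hq
  obtain ⟨e⟩ := Groth.L28.LocCoh.nonempty_cokernel_iso S hW q (h₂ (q + 1) (by omega))
  have h0 : (S.rightDerived q).map W.g = 0 := (h₂ q hq).eq_of_src _ _
  haveI : IsIso (cokernel.π ((S.rightDerived q).map W.g)) := cokernel.π_of_zero h0
  exact (h₁ (q + 1) (by omega)).of_iso (asIso (cokernel.π ((S.rightDerived q).map W.g)) ≪≫ e)

theorem acyc_X₂ {W : ShortComplex C'} (hW : W.ShortExact) (h₁ : Acyc S W.X₁) (h₃ : Acyc S W.X₃) :
    Acyc S W.X₂ := fun q hq =>
  letI := HasDerivedCategory.standard C'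
  haveI := Groth.L00.RDerLES.additive S q
  (Groth.L00.RDerLES.exact₂ S hW q).isZero_X₂ ((h₁ q hq).eq_of_src _ _) ((h₃ q hq).eq_of_tgt _ _)

/-- Right exactness of `S` on acyclic short exact sequences. -/
theorem epi_map_g {W : ShortComplex C'} (hW : W.ShortExact) (h₁ : Acyc S W.X₁) : Epi (S.map W.g) := by
  letI := HasDerivedCategory.standard C'
  haveI := Groth.L00.RDerLES.epi_map_g S hW 0 (h₁ 1 Nat.one_pos)
  have h : S.toRightDerivedZero.app W.X₂ ≫ (S.rightDerived 0).map W.g = S.map W.g ≫ S.toRightDerivedZero.app W.X₃ :=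
    (S.toRightDerivedZero.naturality W.g).symm
  have : S.map W.g = (S.toRightDerivedZero.app W.X₂ ≫ (S.rightDerived 0).map W.g) ≫ inv (S.toRightDerivedZero.app W.X₃) := by
    rw [h, Category.assoc, IsIso.hom_inv_id, Category.comp_id]
  rw [this]
  infer_instance

variable (hTI : ∀ I : C, Injective I → Acyc S (T.obj I))

include hTI in
/-- `R^p(T ⋙ S) = S R^p T` when the `R^q T`, `q ≤ p`, are acyclic for `S`. -/
theorem nonempty_iso : ∀ (p : ℕ) (X : C), (∀ q : ℕ, q ≤ p → Acyc S ((T.rightDerived q).obj X)) →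
    Nonempty (((T ⋙ S).rightDerived p).obj X ≅ S.obj ((T.rightDerived p).obj X))
  | 0, X, _ =>
    haveI : PreservesFiniteLimits (T ⋙ S) := comp_preservesFiniteLimits T S
    ⟨(T ⋙ S).rightDerivedZeroIsoSelf.app X ≪≫ S.mapIso (T.rightDerivedZeroIsoSelf.app X).symm⟩
  | p + 1, X, hX => by
    let W : ShortComplex C := ShortComplex.mk (Injective.ι X) (cokernel.π (Injective.ι X)) (cokernel.condition _)
    have hW : W.ShortExact := { exact := ShortComplex.exact_cokernel _ }
    have hWm : Mono W.f := hW.mono_f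
    haveI : Injective W.X₂ := inferInstanceAs (Injective (Injective.under X))
    obtain ⟨e₁⟩ := Groth.L28.LocCoh.nonempty_cokernel_zero_iso T hW
    -- T X → T I → image, image → T X' → R¹ T X
    let K := cokernel (T.map W.f)
    let j : K ⟶ T.obj W.X₃ := cokernel.desc _ (T.map W.g) (by rw [← T.map_comp, W.zero, T.map_zero])
    have hT := hW.exact.map_of_mono_of_preservesKernel T hWm inferInstance
    haveI : Mono j := hT.mono_cokernelDesc
    have hjπ : cokernel.π (T.map W.f) ≫ j = T.map W.g := cokernel.π_desc _ _ _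
    let W₁ : ShortComplex C' := ShortComplex.mk (T.map W.f) (cokernel.π (T.map W.f)) (cokernel.condition _)
    have hW₁ : W₁.ShortExact :=
      { exact := ShortComplex.exact_cokernel _
        mono_f := T.map_mono W.f }
    let W₂ : ShortComplex C' := ShortComplex.mk j (cokernel.π (T.map W.g)) (by
      rw [← cancel_epi (cokernel.π (T.map W.f)), reassoc_of% hjπ, cokernel.condition, comp_zero])
    let φ : ShortComplex.mk (T.map W.g) (cokernel.π (T.map W.g)) (cokernel.condition _) ⟶ W₂ :=
      { τ₁ := cokernel.π (T.map W.f)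
        τ₂ := 𝟙 _
        τ₃ := 𝟙 _
        comm₁₂ := hjπ.trans (Category.comp_id _).symm
        comm₂₃ := (Category.id_comp _).trans (Category.comp_id _).symm }
    haveI : Epi φ.τ₁ := inferInstanceAs (Epi (cokernel.π (T.map W.f)))
    haveI : IsIso φ.τ₂ := inferInstanceAs (IsIso (𝟙 _))
    haveI : Mono φ.τ₃ := inferInstanceAs (Mono (𝟙 _))
    have hW₂ : W₂.ShortExact :=
      { exact := (ShortComplex.exact_iff_of_epi_of_isIso_of_mono φ).1 (ShortComplex.exact_cokernel _)
        mono_f := inferInstanceAs (Mono j)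
        epi_g := inferInstanceAs (Epi (cokernel.π (T.map W.g))) }
    have a₀ : Acyc S (T.obj W.X₁) := acyc_of_iso S (T.rightDerivedZeroIsoSelf.app X) (hX 0 (by omega))
    have aI : Acyc S (T.obj W.X₂) := hTI _ inferInstance
    have aK : Acyc S K := acyc_X₃ S hW₁ a₀ aI
    have a₁ : Acyc S (cokernel (T.map W.g)) := acyc_of_iso S e₁.symm (hX 1 (by omega))
    have a₃ : Acyc S (T.obj W.X₃) := acyc_X₂ S hW₂ aK a₁
    haveI : PreservesFiniteLimits (T ⋙ S) := comp_preservesFiniteLimits T S
    cases p with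
    | zero =>
      obtain ⟨e⟩ := Groth.L28.LocCoh.nonempty_cokernel_zero_iso (T ⋙ S) hW
      haveI := epi_map_g S hW₁ a₀
      haveI : Epi (S.map (cokernel.π (T.map W.g))) := epi_map_g S hW₂ aK
      have h2 := hW₂.exact.map_of_mono_of_preservesKernel S hW₂.mono_f inferInstance
      let d : cokernel ((T ⋙ S).map W.g) ≅ cokernel (S.map j) :=
        cokernelIsoOfEq (show (T ⋙ S).map W.g = S.map (cokernel.π (T.map W.f)) ≫ S.map j by
          rw [← S.map_comp, hjπ]; rfl) ≪≫ cokernelEpiComp _ _
      haveI : Epi (W₂.map S).g := inferInstanceAs (Epi (S.map (cokernel.π (T.map W.g))))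
      exact ⟨e.symm ≪≫ d ≪≫ (cokernelIsCokernel _).coconePointUniqueUpToIso h2.gIsCokernel ≪≫ S.mapIso e₁⟩
    | succ k =>
      have hTIz : ∀ I : C, Injective I → Acyc S (T.obj I) := hTI
      obtain ⟨e⟩ := nonempty_iso (k + 1) W.X₃ (fun q hq => by
        obtain _ | q := q
        · exact acyc_of_iso S (T.rightDerivedZeroIsoSelf.app W.X₃).symm a₃
        · obtain ⟨e'⟩ := Groth.L28.LocCoh.nonempty_succ_iso T hW q
          exact acyc_of_iso S e'.symm (hX (q + 2) (by omega)))
      obtain ⟨e'⟩ := Groth.L28.LocCoh.nonempty_succ_iso T hW k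
      obtain ⟨e''⟩ := Groth.L28.LocCoh.nonempty_succ_iso (T ⋙ S) hW k
      exact ⟨e''.symm ≪≫ e ≪≫ S.mapIso e'⟩

end Groth.L16.RelExt.AcyclicComp
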