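import Groth.Agent.L16.RelExt.FirstVar
import Groth.Agent.L17.Duality
import Groth.Agent.L10.SiteRightDerived

/-!
# Acyclic resolutions in the first variable compute Ext sheaves
-/

set_option autoImplicit false
set_option backward.isDefEq.respectTransparency false
set_option linter.style.haveILetI false
set_option linter.unusedSectionVars false
universe u

open CategoryTheory CategoryTheory.Limits AlgebraicGeometry

noncomputable section

namespace Groth.L16.RelExt.AcyclicRes

open Groth.L17.ChangeRings (homMod)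

variable {X : Scheme.{u}}

instance instHasHom (M : X.Modules) : ModSite.HasSheafHom (O := X.sheaf) M := Groth.L17.Duality.hasSheafHom M

variable {D : Type*} [Category D] [Abelian D] (U : X.Modules ⥤ D) [U.Additive] [PreservesFiniteLimits U]

/-- The composite of the internal hom and `U`. -/
abbrev P (M : X.Modules) : X.Modules ⥤ D := homMod M ⋙ U

/-- Contravariance of `P`. -/
abbrev Φ {M M' : X.Modules} (g : M' ⟶ M) : P U M ⟶ P U M' :=
  Functor.whiskerRight (ExtSupp.sheafHomMap (O := X.sheaf) g) U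

theorem Φ_comp {M M' M'' : X.Modules} (g : M'' ⟶ M') (h : M' ⟶ M) (G : X.Modules) :
    (Φ U (g ≫ h)).app G = (Φ U h).app G ≫ (Φ U g).app G := by
  refine Eq.trans ?_ (U.map_comp _ _)
  refine congrArg U.map ?_
  refine Eq.trans ?_ (congrArg (fun z => NatTrans.app z G) (conjugateEquiv_comp
    (ModSite.sheafHomAdj (O := X.sheaf) M) (ModSite.sheafHomAdj (O := X.sheaf) M')
    (ModSite.sheafHomAdj (O := X.sheaf) M'') ((ModSite.tensorBi X.sheaf).flip.map h)
    ((ModSite.tensorBi X.sheaf).flip.map g))).symm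
  exact congrArg (fun z => (conjugateEquiv (ModSite.sheafHomAdj (O := X.sheaf) M)
    (ModSite.sheafHomAdj (O := X.sheaf) M'') z).app G) ((ModSite.tensorBi X.sheaf).flip.map_comp g h)

theorem Φ_zero (S : ShortComplex X.Modules) (G : X.Modules) :
    (Φ U S.g).app G ≫ (Φ U S.f).app G = 0 := by
  refine (U.map_comp _ _).symm.trans ?_
  exact (congrArg U.map (w_app S G)).trans (U.map_zero _ _)

theorem Φ_eq_zero (G : X.Modules) {M M' : X.Modules} : (Φ U (0 : M' ⟶ M)).app G = 0 := by
  have h := (Φ_comp U (0 : M' ⟶ M) (𝟙 M) G).symm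
  have hz := Φ_zero U (ShortComplex.mk (0 : M' ⟶ M) (𝟙 M) (zero_comp)) G
  rw [hz] at h
  rw [Category.comp_id] at h
  exact h.symm

/-- Left exactness after `U`. -/
theorem leftExact (S : ShortComplex X.Modules) (hS : S.Exact) [Epi S.g] (G : X.Modules) :
    Mono ((Φ U S.g).app G) ∧ (ShortComplex.mk _ _ (Φ_zero U S G)).Exact := by
  obtain ⟨hm, hex⟩ := left_exact' hS G
  haveI := hm
  exact ⟨U.map_mono _, hex.map_of_mono_of_preservesKernel U hm inferInstance⟩

variable [HasInjectiveResolutions X.Modules]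
  (hU : ∀ (S : ShortComplex X.Modules), S.ShortExact → ∀ I : X.Modules, Injective I →
    (ShortComplex.mk _ _ (Φ_zero U S I)).ShortExact) (G : X.Modules)

/-- The value of the derived functors. -/
abbrev R (M : X.Modules) (p : ℕ) : D := ((P U M).rightDerived p).obj G

include hU in
/-- The long exact sequence. -/
theorem exists_les (S : ShortComplex X.Modules) (hS : S.ShortExact) (p : ℕ) :
    ∃ δ : R U G S.X₁ p ⟶ R U G S.X₃ (p + 1),
      (∃ w : (NatTrans.rightDerived (Φ U S.f) p).app G ≫ δ = 0, (ShortComplex.mk _ _ w).Exact) ∧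
      (∃ w : δ ≫ (NatTrans.rightDerived (Φ U S.g) (p + 1)).app G = 0, (ShortComplex.mk _ _ w).Exact) := by
  obtain ⟨δ, hδ⟩ := Groth.L04.FunctorLES.exists_δ (Φ U S.g) (Φ U S.f) (fun I => Φ_zero U S I)
    (fun I hI => hU S hS I hI) p
  exact ⟨δ.app G, hδ G⟩

/-- Invariance under isomorphism. -/
def congrR {M M' : X.Modules} (e : M ≅ M') (p : ℕ) : R U G M p ≅ R U G M' p :=
  (Groth.L10.SiteCoh.rightDerivedCongr (Functor.isoWhiskerRight (Groth.L17.Duality.homCongr e) U) p).app G

section Resolution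

variable (L : ChainComplex X.Modules ℕ) (hex : ∀ j : ℕ, L.ExactAt (j + 1))
  (hL : ∀ j p : ℕ, 1 ≤ p → IsZero (R U G (L.X j) p))

/-- The syzygies. -/
abbrev Q (j : ℕ) : X.Modules := cokernel (L.d (j + 1) j)

/-- The inclusion of a syzygy. -/
def incl (j : ℕ) : Q L (j + 1) ⟶ L.X j := cokernel.desc _ (L.d (j + 1) j) (L.d_comp_d _ _ _)

theorem π_incl (j : ℕ) : cokernel.π (L.d (j + 2) (j + 1)) ≫ incl L j = L.d (j + 1) j := cokernel.π_desc _ _ _

/-- The syzygy sequence. -/
def seq (j : ℕ) : ShortComplex X.Modules :=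
  ShortComplex.mk (incl L j) (cokernel.π (L.d (j + 1) j)) (by
    rw [← cancel_epi (cokernel.π (L.d (j + 2) (j + 1))), ← Category.assoc, π_incl, cokernel.condition, comp_zero])

include hex in
theorem shortExact_seq (j : ℕ) : (seq L j).ShortExact := by
  have h : (ShortComplex.mk (L.d (j + 2) (j + 1)) (L.d (j + 1) j) (L.d_comp_d _ _ _)).Exact :=
    (L.exactAt_iff' (j + 2) (j + 1) j (by simp) (by simp)).1 (hex j)
  have hm : Mono (incl L j) := h.mono_cokernelDesc
  have he : Epi (seq L j).g := inferInstanceAs (Epi (cokernel.π (L.d (j + 1) j)))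
  let φ : ShortComplex.mk (L.d (j + 1) j) (cokernel.π (L.d (j + 1) j)) (cokernel.condition _) ⟶ seq L j :=
    { τ₁ := cokernel.π (L.d (j + 2) (j + 1))
      τ₂ := 𝟙 _
      τ₃ := 𝟙 _
      comm₁₂ := (π_incl L j).trans (Category.comp_id _).symm
      comm₂₃ := (Category.id_comp _).trans (Category.comp_id _).symm }
  haveI : Epi φ.τ₁ := inferInstanceAs (Epi (cokernel.π (L.d (j + 2) (j + 1))))
  haveI : IsIso φ.τ₂ := inferInstanceAs (IsIso (𝟙 _))
  haveI : Mono φ.τ₃ := inferInstanceAs (Mono (𝟙 _))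
  exact { exact := (ShortComplex.exact_iff_of_epi_of_isIso_of_mono φ).1 (ShortComplex.exact_cokernel _)
          mono_f := hm
          epi_g := he }

include hU hex hL in
theorem nonempty_shift : ∀ (k j : ℕ), Nonempty (R U G (Q L j) (k + 1) ≅ R U G (Q L (j + k)) 1)
  | 0, _ => ⟨Iso.refl _⟩
  | k + 1, j => by
    obtain ⟨δ, ⟨w₁, h₁⟩, w₂, h₂⟩ := exists_les U hU G (seq L j) (shortExact_seq L hex j) (k + 1)
    haveI : Mono δ := h₁.mono_g ((hL j (k + 1) (by omega)).eq_of_src _ _)
    haveI : Epi δ := h₂.epi_f ((hL j (k + 2) (by omega)).eq_of_tgt _ _)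
    haveI : IsIso δ := isIso_of_mono_of_epi δ
    obtain ⟨e⟩ := nonempty_shift k (j + 1)
    have hjk : j + 1 + k = j + (k + 1) := by omega
    exact ⟨(asIso δ).symm ≪≫ e ≪≫ eqToIso (by rw [hjk])⟩

include hU hex hL in
/-- Homology of `U Hom(L, G)` in positive degrees. -/
theorem exists_leftHomologyData (k : ℕ)
    (S : ShortComplex D) (hS : S = ShortComplex.mk ((Φ U (L.d (k + 1) k)).app G) ((Φ U (L.d (k + 2) (k + 1))).app G)
      (by rw [← Φ_comp, L.d_comp_d]; exact Φ_eq_zero U G)) :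
    ∃ d : S.LeftHomologyData, Nonempty (d.H ≅ R U G (Q L k) 1) := by
  subst hS
  let T := ShortComplex.mk (L.d (k + 2) (k + 1)) (cokernel.π (L.d (k + 2) (k + 1))) (cokernel.condition _)
  obtain ⟨hm, hk⟩ := leftExact U T (ShortComplex.exact_cokernel _) G
  haveI := hm
  let i := (Φ U (cokernel.π (L.d (k + 2) (k + 1)))).app G
  obtain ⟨δ, ⟨w₁, h₁⟩, w₂, h₂⟩ := exists_les U hU G (seq L k) (shortExact_seq L hex k) 0
  haveI : Epi δ := h₂.epi_f ((hL k 1 le_rfl).eq_of_tgt _ _)
  let t₁ := (P U (L.X k)).toRightDerivedZero.app G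
  let t₂ := (P U (Q L (k + 1))).toRightDerivedZero.app G
  have hf : (Φ U (incl L k)).app G ≫ i = (Φ U (L.d (k + 1) k)).app G := by
    rw [← π_incl L k, Φ_comp]
  have ht : (Φ U (incl L k)).app G ≫ t₂ = t₁ ≫ (NatTrans.rightDerived (Φ U (incl L k)) 0).app G :=
    (Groth.L04.FunctorLES.toRightDerivedZero_rightDerived (Φ U (incl L k)) G).symm
  have hz : (Φ U (incl L k)).app G ≫ t₂ ≫ δ = 0 := by
    rw [reassoc_of% ht]
    exact (congrArg (t₁ ≫ ·) w₁).trans comp_zero
  haveI : IsIso t₁ := inferInstance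
  haveI : IsIso t₂ := inferInstance
  haveI : Epi (t₂ ≫ δ) := inferInstance
  have hex' : (ShortComplex.mk ((Φ U (incl L k)).app G) (t₂ ≫ δ) hz).Exact := by
    refine (ShortComplex.exact_iff_of_iso ?_).2 h₁
    exact ShortComplex.isoMk (asIso t₁) (asIso t₂) (Iso.refl _) ht.symm (Category.comp_id _).symm
  have hl : hk.fIsKernel.lift (KernelFork.ofι ((Φ U (L.d (k + 1) k)).app G)
      (by rw [← Φ_comp, L.d_comp_d]; exact Φ_eq_zero U G)) = (Φ U (incl L k)).app G := by
    rw [← cancel_mono i]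
    exact (hk.fIsKernel.fac _ WalkingParallelPair.zero).trans hf.symm
  refine ⟨{ K := (P U (Q L (k + 1))).obj G
            H := R U G (Q L k) 1
            i := i
            π := t₂ ≫ δ
            wi := Φ_zero U T G
            hi := hk.fIsKernel
            wπ := by exact (congrArg (· ≫ t₂ ≫ δ) hl).trans hz
            hπ := ?_ }, ⟨Iso.refl _⟩⟩
  refine CokernelCofork.IsColimit.ofπ _ _ (fun g hg => hex'.desc g ?_) (fun g hg => hex'.g_desc g _)
    (fun g hg m hm' => (cancel_epi (t₂ ≫ δ)).1 (hm'.trans (hex'.g_desc g _).symm))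
  exact (congrArg (· ≫ g) hl).symm.trans hg

variable {F : X.Modules} (π : L.X 0 ⟶ F) [Epi π] (hπ : L.d 1 0 ≫ π = 0)
  (hex0 : (ShortComplex.mk (L.d 1 0) π hπ).Exact)

variable (C : CochainComplex D ℕ) (e : ∀ j : ℕ, C.X j ≅ (P U (L.X j)).obj G)
  (hC : ∀ j : ℕ, C.d j (j + 1) ≫ (e (j + 1)).hom = (e j).hom ≫ (Φ U (L.d (j + 1) j)).app G)

include hU hex hL hex0 hC in
theorem nonempty_homology_iso (i : ℕ) : Nonempty (C.homology i ≅ R U G F i) := by
  obtain _ | k := i
  · obtain ⟨hm, hk⟩ := leftExact U (ShortComplex.mk (L.d 1 0) π hπ) hex0 G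
    haveI := hm
    let hk' := hk.fIsKernel
    haveI : IsIso (C.homologyπ 0) := inferInstance
    let e0 : C.cycles 0 ≅ (P U F).obj G :=
      IsLimit.conePointsIsoOfNatIso (C.cyclesIsKernel 0 1 (by simp)) hk'
        (parallelPair.ext (e 0) (e 1) (hC 0) (by simp))
    exact ⟨(asIso (C.homologyπ 0)).symm ≪≫ e0 ≪≫ asIso ((P U F).toRightDerivedZero.app G)⟩
  · let S := ShortComplex.mk ((Φ U (L.d (k + 1) k)).app G) ((Φ U (L.d (k + 2) (k + 1))).app G)
      (by rw [← Φ_comp, L.d_comp_d]; exact Φ_eq_zero U G)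
    obtain ⟨d, ⟨eH⟩⟩ := exists_leftHomologyData U hU G L hex hL k S rfl
    obtain ⟨es⟩ := nonempty_shift U hU G L hex hL k 0
    let eS : C.sc' k (k + 1) (k + 2) ≅ S :=
      ShortComplex.isoMk (e k) (e (k + 1)) (e (k + 2)) (hC k).symm (hC (k + 1)).symm
    let eF : F ≅ Q L 0 := hex0.gIsCokernel.coconePointUniqueUpToIso (colimit.isColimit _)
    exact ⟨ShortComplex.homologyMapIso (C.isoSc' k (k + 1) (k + 2) (by simp) (by simp) ≪≫ eS) ≪≫
      d.homologyIso ≪≫ eH ≪≫ eqToIso (by rw [Nat.zero_add]) ≪≫ es.symm ≪≫ congrR U G eF.symm (k + 1)⟩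

end Resolution

end Groth.L16.RelExt.AcyclicRes

namespace Groth.L16.RelExt.AcyclicRes

open Groth.L17.ChangeRings (homMod)

variable {X : Scheme.{u}}

/-- Exactness without pushing forward. -/
theorem shortExact_id (S : ShortComplex X.Modules) (hS : S.ShortExact) (I : X.Modules) [Injective I] :
    (ShortComplex.mk _ _ (Φ_zero (𝟭 X.Modules) S I)).ShortExact := by
  have h := shortExact_push (S := S) (𝟙 X) hS I
  refine ShortComplex.shortExact_of_iso ?_ h
  let ε := Scheme.Modules.pushforwardId X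
  exact ShortComplex.isoMk (ε.app _) (ε.app _) (ε.app _) (ε.hom.naturality _).symm (ε.hom.naturality _).symm

/-- `Hom(E, -)` has no higher derived functors for `E` finite locally free. -/
theorem isZero_R_locFree [HasInjectiveResolutions X.Modules] (G E : X.Modules) (hE : FlatMod.IsFinLocFree E)
    (p : ℕ) (hp : 1 ≤ p) : IsZero (R (𝟭 X.Modules) G E p) := by
  obtain ⟨k, rfl⟩ : ∃ k, p = k + 1 := ⟨p - 1, by omega⟩
  haveI := Groth.L17.Duality.preservesFiniteColimits_homMod E hE
  let I := injectiveResolution G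
  haveI : (P (𝟭 X.Modules) E).PreservesHomology := inferInstance
  refine IsZero.of_iso ?_ (I.isoRightDerivedObj (P (𝟭 X.Modules) E) (k + 1))
  exact (((P (𝟭 X.Modules) E).map_isZero (I.cocomplex_exactAt_succ k).isZero_homology)).of_iso
    ((I.cocomplex.sc (k + 1)).mapHomologyIso (P (𝟭 X.Modules) E))

end Groth.L16.RelExt.AcyclicRes
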