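import Groth.Agent.L04.SupportSh.FunctorLES
import Groth.Agent.L15.KFlatSite.Basic
import Groth.Agent.L17.ChangeRings
import Groth.Agent.L19.Pinch.Sheaf
import Groth.Agent.L00.FlatCover
import Groth.Prelude.Def_ExtSupp

/-!
# `f_* Hom(-, I)` for injective `I` is exact
-/

set_option autoImplicit false
set_option backward.isDefEq.respectTransparency false
set_option linter.style.haveILetI false
universe u

open CategoryTheory CategoryTheory.Limits AlgebraicGeometry TopologicalSpace Opposite

noncomputable section

namespace Groth.L16.RelExt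

open Groth.L00.Tensor (tensorLeftF)

variable {X Y : Scheme.{u}}

/-- The fixed-left-factor tensor functor. -/
abbrev tL (T : X.Modules) : X.Modules ⥤ X.Modules := (ModSite.tensorBi (X.sheaf)).obj T

/-- `T ⊗ -` in the two spellings. -/
def tLIso (T : X.Modules) : tensorLeftF T ≅ tL T :=
  NatIso.ofComponents (fun M => Iso.refl _) (fun {M M'} g => by
    refine (Category.comp_id _).trans (Eq.trans ?_ (Category.id_comp _).symm)
    refine congrArg (Groth.L00.Tensor.shf X).map ?_
    exact (congrArg (fun k => MonoidalCategory.tensorHom k ((Groth.L00.Tensor.preF X).map g))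
      ((Groth.L00.Tensor.preF X).map_id T)).trans (MonoidalCategory.id_tensorHom _ _))

instance preservesColimits_tL (T : X.Modules) : PreservesColimitsOfSize.{0, 0} (tL T) :=
  haveI : PreservesColimitsOfSize.{0, 0} (tensorLeftF T) := preservesColimitsOfSize_shrink.{0, u, 0, u} _
  preservesColimits_of_natIso (tLIso T)

attribute [local instance] preservesBinaryBiproducts_of_preservesBinaryCoproducts in
instance additive_tL (T : X.Modules) : (tL T).Additive := Functor.additive_of_preservesBinaryBiproducts _

instance additive_push (f : X ⟶ Y) : (Scheme.Modules.pushforward f).Additive :=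
  (Scheme.Modules.pullbackPushforwardAdjunction f).right_adjoint_additive

theorem mono_tL {T : X.Modules} (hT : FlatMod.IsFlat T) {M M' : X.Modules} (g : M ⟶ M') [Mono g] :
    Mono ((tL T).map g) :=
  haveI : (tensorLeftF T).PreservesMonomorphisms := Groth.L17.ChangeRings.preservesMono_tensorLeftF hT
  haveI : (tL T).PreservesMonomorphisms := Functor.PreservesMonomorphisms.of_iso (tLIso T)
  inferInstance

section Transpose

variable {M M' : X.Modules} [ModSite.HasSheafHom (O := X.sheaf) M] [ModSite.HasSheafHom (O := X.sheaf) M']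
  (g : M' ⟶ M) {T I : X.Modules}

/-- Contravariance of the internal hom, transposed. -/
theorem symm_comp_sheafHomMap (k : T ⟶ (ModSite.sheafHom (O := X.sheaf) M).obj I) :
    ((ModSite.sheafHomAdj (O := X.sheaf) M').homEquiv T I).symm (k ≫ (ExtSupp.sheafHomMap (O := X.sheaf) g).app I) =
      (tL T).map g ≫ ((ModSite.sheafHomAdj (O := X.sheaf) M).homEquiv T I).symm k := by
  have h := conjugateEquiv_counit (ModSite.sheafHomAdj (O := X.sheaf) M) (ModSite.sheafHomAdj (O := X.sheaf) M')
    ((ModSite.tensorBi X.sheaf).flip.map g) I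
  rw [Adjunction.homEquiv_counit, Adjunction.homEquiv_counit, Functor.map_comp, Category.assoc]
  refine (congrArg (fun z => ((ModSite.tensorBi X.sheaf).flip.obj M').map k ≫ z) h).trans ?_
  exact ((Category.assoc _ _ _).symm.trans (congrArg (fun z => z ≫ (ModSite.sheafHomAdj (O := X.sheaf) M).counit.app I)
    (((ModSite.tensorBi X.sheaf).flip.map g).naturality k))).trans (Category.assoc _ _ _)

theorem homEquiv_comp (h : (tL T).obj M ⟶ I) :
    (ModSite.sheafHomAdj (O := X.sheaf) M).homEquiv T I h ≫ (ExtSupp.sheafHomMap (O := X.sheaf) g).app I =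
      (ModSite.sheafHomAdj (O := X.sheaf) M').homEquiv T I ((tL T).map g ≫ h) := by
  apply ((ModSite.sheafHomAdj (O := X.sheaf) M').homEquiv T I).symm.injective
  rw [symm_comp_sheafHomMap, Equiv.symm_apply_apply]
  exact ((ModSite.sheafHomAdj (O := X.sheaf) M').homEquiv T I).symm_apply_apply _ |>.symm

end Transpose

variable (S : ShortComplex X.Modules)
  [ModSite.HasSheafHom (O := X.sheaf) S.X₁] [ModSite.HasSheafHom (O := X.sheaf) S.X₂]
  [ModSite.HasSheafHom (O := X.sheaf) S.X₃]

theorem w_app (I : X.Modules) :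
    (ExtSupp.sheafHomMap (O := X.sheaf) S.g).app I ≫ (ExtSupp.sheafHomMap (O := X.sheaf) S.f).app I = 0 := by
  haveI := (ModSite.sheafHomAdj (O := X.sheaf) S.X₁).isLeftAdjoint
  apply ((ModSite.sheafHomAdj (O := X.sheaf) S.X₁).homEquiv _ I).symm.injective
  have h0 : ((ModSite.sheafHomAdj (O := X.sheaf) S.X₁).homEquiv ((ModSite.sheafHom (O := X.sheaf) S.X₃).obj I) I).symm 0 = 0 := by
    rw [Adjunction.homEquiv_counit, Functor.map_zero, zero_comp]
  rw [symm_comp_sheafHomMap, h0, ← Category.id_comp ((ExtSupp.sheafHomMap (O := X.sheaf) S.g).app I),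
    symm_comp_sheafHomMap, ← Category.assoc, ← Functor.map_comp, S.zero, Functor.map_zero, zero_comp]

variable {S}

theorem left_exact' (hS : S.Exact) [Epi S.g] (I : X.Modules) :
    Mono ((ExtSupp.sheafHomMap (O := X.sheaf) S.g).app I) ∧
      (ShortComplex.mk _ _ (w_app S I)).Exact := by
  haveI hmono : Mono ((ExtSupp.sheafHomMap (O := X.sheaf) S.g).app I) := by
    refine Preadditive.mono_of_cancel_zero _ fun {W} k hk => ?_
    apply ((ModSite.sheafHomAdj (O := X.sheaf) S.X₃).homEquiv W I).symm.injective
    haveI : Epi ((tL W).map S.g) := inferInstance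
    rw [← cancel_epi ((tL W).map S.g), ← symm_comp_sheafHomMap, hk]
    simp only [Adjunction.homEquiv_counit, Functor.map_zero, zero_comp, comp_zero]
  refine ⟨hmono, ShortComplex.exact_of_f_is_kernel _ ?_⟩
  have key : ∀ {W : X.Modules} (k : W ⟶ (ModSite.sheafHom (O := X.sheaf) S.X₂).obj I),
      k ≫ (ExtSupp.sheafHomMap (O := X.sheaf) S.f).app I = 0 →
      ∃ l, l ≫ (ExtSupp.sheafHomMap (O := X.sheaf) S.g).app I = k := by
    intro W k hk
    have hT : (S.map (tL W)).Exact ∧ Epi (S.map (tL W)).g :=
      ⟨(S.map (tL W)).exact_of_g_is_cokernel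
        (CokernelCofork.mapIsColimit _ hS.gIsCokernel (tL W)), inferInstanceAs (Epi ((tL W).map S.g))⟩
    haveI := hT.2
    have hh : (tL W).map S.f ≫ ((ModSite.sheafHomAdj (O := X.sheaf) S.X₂).homEquiv W I).symm k = 0 := by
      rw [← symm_comp_sheafHomMap, hk, Adjunction.homEquiv_counit, Functor.map_zero, zero_comp]
    refine ⟨(ModSite.sheafHomAdj (O := X.sheaf) S.X₃).homEquiv W I (hT.1.desc _ hh), ?_⟩
    rw [homEquiv_comp]
    exact (congrArg _ (hT.1.g_desc _ hh)).trans (Equiv.apply_symm_apply _ _)
  exact KernelFork.IsLimit.ofι _ _ (fun k hk => (key k hk).choose) (fun k hk => (key k hk).choose_spec)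
    (fun k hk m hm => (cancel_mono ((ExtSupp.sheafHomMap (O := X.sheaf) S.g).app I)).1
      (hm.trans (key k hk).choose_spec.symm))

theorem left_exact (hS : S.ShortExact) (I : X.Modules) :
    Mono ((ExtSupp.sheafHomMap (O := X.sheaf) S.g).app I) ∧
      (ShortComplex.mk _ _ (w_app S I)).Exact :=
  haveI := hS.epi_g
  left_exact' hS.exact I

theorem w_push (f : X ⟶ Y) (I : X.Modules) :
    (Scheme.Modules.pushforward f).map ((ExtSupp.sheafHomMap (O := X.sheaf) S.g).app I) ≫
      (Scheme.Modules.pushforward f).map ((ExtSupp.sheafHomMap (O := X.sheaf) S.f).app I) = 0 := by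
  rw [← Functor.map_comp]
  exact (congrArg (Scheme.Modules.pushforward f).map (w_app S I)).trans
    ((Scheme.Modules.pushforward f).map_zero _ _)

theorem shortExact_push (f : X ⟶ Y) (hS : S.ShortExact) (I : X.Modules) [Injective I] :
    (ShortComplex.mk _ _ (w_push (S := S) f I)).ShortExact := by
  haveI : PreservesFiniteLimits (Scheme.Modules.pushforward f) :=
    haveI := (Scheme.Modules.pullbackPushforwardAdjunction f).isRightAdjoint
    inferInstance
  obtain ⟨hm, hex⟩ := left_exact hS I
  haveI := hm
  haveI := hS.mono_f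
  refine { exact := ?_, mono_f := ?_, epi_g := ?_ }
  · exact hex.map_of_mono_of_preservesKernel (Scheme.Modules.pushforward f) hm inferInstance
  · exact (Scheme.Modules.pushforward f).map_mono _
  · let C := (Scheme.Modules.pushforward f).obj ((ModSite.sheafHom (O := X.sheaf) S.X₁).obj I)
    let π := (Groth.L00.FlatCover.πBig Y).app C
    haveI : Epi π := Groth.L00.FlatCover.epi_πBig C
    let P := (Groth.L00.FlatCover.coverBig Y).obj C
    let adj := Scheme.Modules.pullbackPushforwardAdjunction f
    have hT : FlatMod.IsFlat ((Scheme.Modules.pullback f).obj P) :=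
      Groth.L19.Pinch.isFlat_pullback f (Groth.L00.FlatCover.isFlat_coverBig C)
    haveI := mono_tL hT S.f
    let π' : (Scheme.Modules.pullback f).obj P ⟶ (ModSite.sheafHom (O := X.sheaf) S.X₁).obj I :=
      (adj.homEquiv P _).symm π
    let h := ((ModSite.sheafHomAdj (O := X.sheaf) S.X₁).homEquiv _ I).symm π'
    let h2 := Injective.factorThru h ((tL ((Scheme.Modules.pullback f).obj P)).map S.f)
    have e : (ModSite.sheafHomAdj (O := X.sheaf) S.X₂).homEquiv _ I h2 ≫
        (ExtSupp.sheafHomMap (O := X.sheaf) S.f).app I = π' := by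
      rw [homEquiv_comp, Injective.comp_factorThru]
      exact Equiv.apply_symm_apply _ _
    refine epi_of_epi_fac (f := adj.homEquiv P _ ((ModSite.sheafHomAdj (O := X.sheaf) S.X₂).homEquiv _ I h2)) (h := π) ?_
    refine (adj.homEquiv_naturality_right _ _).symm.trans ?_
    rw [e]
    exact Equiv.apply_symm_apply _ _

section LES

variable {C D : Type*} [Category C] [Abelian C] [HasInjectiveResolutions C] [Category D] [Abelian D]
  {F₁ F₂ F₃ : C ⥤ D} [F₁.Additive] [F₂.Additive] [F₃.Additive]

open Groth.L04.FunctorLES (conj_comp conj_comp_zero) in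
/-- Exactness in the middle of a short exact sequence of functors on injective objects. -/
theorem exact_mid (φ : F₁ ⟶ F₂) (ψ : F₂ ⟶ F₃) (w : ∀ X, φ.app X ≫ ψ.app X = 0)
    (hex : ∀ I : C, Injective I → (ShortComplex.mk (φ.app I) (ψ.app I) (w I)).ShortExact) (n : ℕ) (X : C) :
    ∃ h : (NatTrans.rightDerived φ n).app X ≫ (NatTrans.rightDerived ψ n).app X = 0,
      (ShortComplex.mk _ _ h).Exact := by
  let S : ShortComplex (CochainComplex D ℕ) := ShortComplex.mk
    ((NatTrans.mapHomologicalComplex φ (.up ℕ)).app (injectiveResolution X).cocomplex)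
    ((NatTrans.mapHomologicalComplex ψ (.up ℕ)).app (injectiveResolution X).cocomplex) (by
      ext i
      exact w _)
  have hS : S.ShortExact :=
    HomologicalComplex.shortExact_of_degreewise_shortExact S fun i => hex _ ((injectiveResolution X).injective i)
  have hψ := InjectiveResolution.rightDerived_app_eq ψ (injectiveResolution X) n
  have hφ := InjectiveResolution.rightDerived_app_eq φ (injectiveResolution X) n
  have h0 : HomologicalComplex.homologyMap S.f n ≫ HomologicalComplex.homologyMap S.g n = 0 := by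
    rw [← HomologicalComplex.homologyMap_comp, S.zero, HomologicalComplex.homologyMap_zero]
  have h : (NatTrans.rightDerived φ n).app X ≫ (NatTrans.rightDerived ψ n).app X = 0 := by
    rw [hφ, hψ]
    exact conj_comp_zero _ _ _ _ _ h0
  refine ⟨h, (ShortComplex.exact_iff_of_iso ?_).2 (hS.homology_exact₂ n)⟩
  refine ShortComplex.isoMk ((injectiveResolution X).isoRightDerivedObj F₁ n)
    ((injectiveResolution X).isoRightDerivedObj F₂ n) ((injectiveResolution X).isoRightDerivedObj F₃ n) ?_ ?_
  · exact ((congrArg (· ≫ _) hφ).trans (conj_comp _ _ _)).symm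
  · exact ((congrArg (· ≫ _) hψ).trans (conj_comp _ _ _)).symm

/-- In degree zero the first map of left exact functors stays injective. -/
theorem mono_zero [PreservesFiniteLimits F₁] [PreservesFiniteLimits F₂] (φ : F₁ ⟶ F₂) (X : C)
    [Mono (φ.app X)] : Mono ((NatTrans.rightDerived φ 0).app X) := by
  have e : (NatTrans.rightDerived φ 0).app X =
      inv (F₁.toRightDerivedZero.app X) ≫ φ.app X ≫ F₂.toRightDerivedZero.app X := by
    rw [← Groth.L04.FunctorLES.toRightDerivedZero_rightDerived, IsIso.inv_hom_id_assoc]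
  rw [e]
  infer_instance

end LES

/-- The long exact sequence of relative Ext sheaves in the first variable. -/
theorem longExact (f : X ⟶ Y) (hS : S.ShortExact) (G : X.Modules)
    [HasInjectiveResolutions (ModSite.Mod X.sheaf)]
    [(ModSite.sheafHom (O := X.sheaf) S.X₁ ⋙ Scheme.Modules.pushforward f).Additive]
    [(ModSite.sheafHom (O := X.sheaf) S.X₂ ⋙ Scheme.Modules.pushforward f).Additive]
    [(ModSite.sheafHom (O := X.sheaf) S.X₃ ⋙ Scheme.Modules.pushforward f).Additive] :
    let a := Functor.whiskerRight (ExtSupp.sheafHomMap (O := X.sheaf) S.g) (Scheme.Modules.pushforward f)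
    let b := Functor.whiskerRight (ExtSupp.sheafHomMap (O := X.sheaf) S.f) (Scheme.Modules.pushforward f)
    Mono ((NatTrans.rightDerived a 0).app G) ∧
    (∀ p : ℕ, ∃ w : (NatTrans.rightDerived a p).app G ≫ (NatTrans.rightDerived b p).app G = 0,
      (ShortComplex.mk _ _ w).Exact) ∧
    ∃ δ : ∀ p : ℕ, ((ModSite.sheafHom (O := X.sheaf) S.X₁ ⋙ Scheme.Modules.pushforward f).rightDerived p).obj G ⟶
        ((ModSite.sheafHom (O := X.sheaf) S.X₃ ⋙ Scheme.Modules.pushforward f).rightDerived (p + 1)).obj G,
      ∀ p : ℕ,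
        (∃ w : (NatTrans.rightDerived b p).app G ≫ δ p = 0, (ShortComplex.mk _ _ w).Exact) ∧
        (∃ w : δ p ≫ (NatTrans.rightDerived a (p + 1)).app G = 0, (ShortComplex.mk _ _ w).Exact) := by
  intro a b
  have w : ∀ I, a.app I ≫ b.app I = 0 := fun I => w_push (S := S) f I
  have hex : ∀ I, Injective I → (ShortComplex.mk (a.app I) (b.app I) (w I)).ShortExact :=
    fun I hI => haveI : Injective (C := X.Modules) I := hI; shortExact_push f hS I
  haveI := (Scheme.Modules.pullbackPushforwardAdjunction f).isRightAdjoint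
  haveI := (ModSite.sheafHomAdj (O := X.sheaf) S.X₂).isRightAdjoint
  haveI := (ModSite.sheafHomAdj (O := X.sheaf) S.X₃).isRightAdjoint
  haveI : PreservesFiniteLimits (ModSite.sheafHom (O := X.sheaf) S.X₂ ⋙ Scheme.Modules.pushforward f) :=
    inferInstance
  haveI : PreservesFiniteLimits (ModSite.sheafHom (O := X.sheaf) S.X₃ ⋙ Scheme.Modules.pushforward f) :=
    inferInstance
  haveI : Mono (a.app G) := by
    haveI := (left_exact hS G).1
    exact (Scheme.Modules.pushforward f).map_mono _
  refine ⟨mono_zero a G, fun p => exact_mid a b w hex p G, ?_⟩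
  choose δ hδ using fun p => Groth.L04.FunctorLES.exists_δ a b w hex p
  exact ⟨fun p => (δ p).app G, fun p => hδ p G⟩

end Groth.L16.RelExt
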