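import Groth.Agent.S10942
import Groth.Agent.L17.PushQCoh
import Groth.Agent.L17.GrothSS
import Groth.Agent.L22.PDual.ExtSheafHom
import Groth.Agent.L10.SiteRightDerived
import Groth.Prelude.Def_SpSeq

/-!
# The composition spectral sequence of relative Ext sheaves
-/

set_option autoImplicit false
set_option backward.isDefEq.respectTransparency false
set_option linter.style.haveILetI false
universe u

open CategoryTheory CategoryTheory.Limits AlgebraicGeometry Opposite TopologicalSpace ZeroObject

noncomputable section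

namespace Groth.L16.RelExt

open Groth.L17.ChangeRings (homMod)

variable {X Y Z : Scheme.{u}}

/-- Sheaf homs into an injective module are flasque. -/
theorem surjective_res_homMod (F I : X.Modules) [ModSite.HasSheafHom (O := X.sheaf) F] [Injective I]
    (U V : X.Opens) (h : U ≤ V) :
    Function.Surjective (((homMod F).obj I).presheaf.map (homOfLE h).op) := by
  haveI : DCoh.HasSheafHom F :=
    haveI := ((ModSite.sheafHomAdj (O := X.sheaf) F).ofNatIsoLeft
      ((Groth.L17.ChangeRings.tensorRightBiIso F).symm ≪≫ Groth.L22.PDual.rightBiIso F))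
    this.isLeftAdjoint
  let φ := (Groth.L22.PDual.homIso F).hom.app I
  intro s
  haveI hU : IsIso (φ.app U) := inferInstance
  obtain ⟨t, ht⟩ := Groth.Agent.S10942.result X F I inferInstance U V h
    ((inv (φ.app U)) s)
  refine ⟨φ.app V t, ?_⟩
  refine (ConcreteCategory.congr_hom (φ.mapPresheaf.naturality (homOfLE h).op) t).symm.trans ?_
  refine (congrArg (φ.app U) ht).trans ?_
  exact ConcreteCategory.congr_hom (IsIso.inv_hom_id (φ.app U)) s

theorem isFlasque_push_homMod (f : X ⟶ Y) (F I : X.Modules) [ModSite.HasSheafHom (O := X.sheaf) F] [Injective I] :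
    TopCat.Sheaf.IsFlasque (Coh.toAb ((Scheme.Modules.pushforward f).obj ((homMod F).obj I))) := by
  refine ⟨fun {U V} i => ?_⟩
  rw [AddCommGrpCat.epi_iff_surjective]
  exact surjective_res_homMod F I _ _ ((Opens.map f.base).map i.unop).le

theorem exists_spectralSequence (f : X ⟶ Y) (g : Y ⟶ Z) (F G : X.Modules)
    [ModSite.HasSheafHom (O := X.sheaf) F] [HasInjectiveResolutions (ModSite.Mod X.sheaf)]
    [HasInjectiveResolutions Y.Modules]
    [(ModSite.sheafHom (O := X.sheaf) F ⋙ Scheme.Modules.pushforward f).Additive]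
    [(ModSite.sheafHom (O := X.sheaf) F ⋙ Scheme.Modules.pushforward (f ≫ g)).Additive] :
    ∃ (E : E₂CohomologicalSpectralSequence Z.Modules)
      (a : SpSeq.Abutment E (fun n : ℤ =>
        if 0 ≤ n then ((ModSite.sheafHom (O := X.sheaf) F ⋙ Scheme.Modules.pushforward (f ≫ g)).rightDerived n.toNat).obj G else (0 : Z.Modules))),
      (∀ n : ℤ, a.IsFinite n) ∧ SpSeq.IsBounded E ∧
      ∀ p q : ℤ, Nonempty ((E.page 2 le_rfl).X (p, q) ≅
        (if 0 ≤ p ∧ 0 ≤ q then (Coh.Rpush g p.toNat).obj (((ModSite.sheafHom (O := X.sheaf) F ⋙ Scheme.Modules.pushforward f).rightDerived q.toNat).obj G)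
          else (0 : Z.Modules))) := by
  haveI : HasInjectiveResolutions X.Modules := ‹HasInjectiveResolutions (ModSite.Mod X.sheaf)›
  haveI : (Scheme.Modules.pushforward g).IsRightAdjoint :=
    (Scheme.Modules.pullbackPushforwardAdjunction g).isRightAdjoint
  let T := homMod F ⋙ Scheme.Modules.pushforward f
  let S := Scheme.Modules.pushforward g
  haveI : T.Additive := ‹(ModSite.sheafHom (O := X.sheaf) F ⋙ Scheme.Modules.pushforward f).Additive›
  haveI : S.Additive := (Scheme.Modules.pullbackPushforwardAdjunction g).right_adjoint_additive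
  haveI : EnoughInjectives Y.Modules :=
    haveI := Groth.L00.Tensor.grothendieckAbelian_modules Y
    inferInstance
  letI := HasDerivedCategory.standard Y.Modules
  let c : T ⋙ S ≅ homMod F ⋙ Scheme.Modules.pushforward (f ≫ g) :=
    Functor.associator _ _ _ ≪≫ Functor.isoWhiskerLeft (homMod F) (Scheme.Modules.pushforwardComp f g)
  refine Groth.L17.GrothSS.exists_spectralSequence_of_iso T S (fun Q hQ q hq => ?_) G _ _ ?_ ?_ ?_ ?_
  · obtain ⟨k, rfl⟩ : ∃ k, q = k + 1 := ⟨q - 1, by omega⟩
    haveI : Injective (C := X.Modules) Q := hQ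
    exact Groth.L17.PushQCoh.isZero_Rpush_of_flasque g _ (isFlasque_push_homMod f F Q) k
  · intro n
    rw [if_pos (Int.natCast_nonneg n), Int.toNat_natCast]
    exact ⟨((Groth.L10.SiteCoh.rightDerivedCongr c n).app G).symm⟩
  · intro n hn
    rw [if_neg (by omega)]
    exact isZero_zero _
  · intro p q
    rw [if_pos ⟨Int.natCast_nonneg p, Int.natCast_nonneg q⟩, Int.toNat_natCast, Int.toNat_natCast]
    exact ⟨Iso.refl _⟩
  · intro p q h
    rw [if_neg h]
    exact isZero_zero _

end Groth.L16.RelExt
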