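import Groth.Agent.L10.RestrExact
import Groth.Agent.L10.SiteRightDerived
import Groth.Agent.L17.ProjFormula
import Groth.Agent.L20.ResDescent
import Groth.Agent.L16.HomCorep.Main
import Groth.Agent.L16.RelExt.FirstVar

/-!
# Relative Ext sheaves and twists by finite locally free modules
-/

set_option autoImplicit false
set_option backward.isDefEq.respectTransparency false
set_option linter.style.haveILetI false
universe u

open CategoryTheory CategoryTheory.Limits AlgebraicGeometry

noncomputable section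

namespace Groth.L16.RelExt

open Groth.L00.Tensor (tensorRightF tensorLeftF tensorFlipIso tensorIso tensorComm tensorAssoc tensorMap)
open Groth.L17.ChangeRings (homMod tensorRightBiIso)
open Groth.L17.Duality (dual)

variable {X Y : Scheme.{u}}

/-- `- ⊗ M` only depends on `M` up to isomorphism. -/
def rightCongr {M M' : X.Modules} (e : M ≅ M') : tensorRightF M ≅ tensorRightF M' :=
  NatIso.ofComponents (fun A => tensorIso (Iso.refl A) e) fun {A B} g => by
    show tensorMap g (𝟙 M) ≫ tensorMap (𝟙 B) e.hom = tensorMap (𝟙 A) e.hom ≫ tensorMap g (𝟙 M')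
    rw [← Groth.L00.Tensor.tensorMap_comp, ← Groth.L00.Tensor.tensorMap_comp]
    simp

/-- `Hom(F, -) ` commutes with twists by finite locally free modules. -/
def homTwistIso (F E : X.Modules) [ModSite.HasSheafHom (O := X.sheaf) F] (hE : FlatMod.IsFinLocFree E) :
    tensorRightF E ⋙ homMod F ≅ homMod F ⋙ tensorRightF E :=
  haveI := Groth.L17.Duality.hasSheafHom E
  let r := (ModSite.sheafHomAdj (O := X.sheaf) F).ofNatIsoLeft (tensorRightBiIso F).symm
  let a := Groth.L17.Duality.dualAdj E hE
  let e : tensorRightF F ⋙ tensorRightF (dual E) ≅ tensorRightF (dual E) ⋙ tensorRightF F :=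
    Groth.L16.HomCorep.twiceIso F (dual E) ≪≫ rightCongr (tensorComm F (dual E)) ≪≫
      (Groth.L16.HomCorep.twiceIso (dual E) F).symm
  ((r.comp a).ofNatIsoLeft e).rightAdjointUniq (a.comp r)

theorem preservesFinite_tensorRight (E : X.Modules) (hE : FlatMod.IsFinLocFree E) :
    PreservesFiniteLimits (tensorRightF E) ∧ PreservesFiniteColimits (tensorRightF E) := by
  haveI := Groth.L17.Duality.hasSheafHom E
  haveI : (tensorRightF E).IsRightAdjoint := (Groth.L17.Duality.dualAdj E hE).isRightAdjoint
  exact ⟨inferInstance, inferInstance⟩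

/-- The projection formula for relative Ext sheaves. -/
theorem nonempty_projection (f : X ⟶ Y) (F M : X.Modules) (N : Y.Modules) (hN : FlatMod.IsFinLocFree N) (p : ℕ)
    [ModSite.HasSheafHom (O := X.sheaf) F] [HasInjectiveResolutions (ModSite.Mod X.sheaf)]
    [(ModSite.sheafHom (O := X.sheaf) F ⋙ Scheme.Modules.pushforward f).Additive] :
    Nonempty (((ModSite.sheafHom (O := X.sheaf) F ⋙ Scheme.Modules.pushforward f).rightDerived p).obj
        (CohB1.tensorMod M ((Scheme.Modules.pullback f).obj N)) ≅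
      CohB1.tensorMod (((ModSite.sheafHom (O := X.sheaf) F ⋙ Scheme.Modules.pushforward f).rightDerived p).obj M) N) := by
  haveI : HasInjectiveResolutions X.Modules := ‹HasInjectiveResolutions (ModSite.Mod X.sheaf)›
  let E := (Scheme.Modules.pullback f).obj N
  have hE : FlatMod.IsFinLocFree E := Groth.L29.LocFree.pullback f hN
  haveI := Groth.L17.Duality.hasSheafHom E
  let P := homMod F ⋙ Scheme.Modules.pushforward f
  haveI : P.Additive := ‹(ModSite.sheafHom (O := X.sheaf) F ⋙ Scheme.Modules.pushforward f).Additive›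
  obtain ⟨hE1, hE2⟩ := preservesFinite_tensorRight E hE
  obtain ⟨hN1, hN2⟩ := preservesFinite_tensorRight N hN
  let e2 : tensorRightF E ⋙ P ≅ P ⋙ tensorRightF N :=
    (Functor.associator _ _ _).symm ≪≫ Functor.isoWhiskerRight (homTwistIso F E hE) _ ≪≫ Functor.associator _ _ _ ≪≫
      Functor.isoWhiskerLeft (homMod F)
        (Functor.isoWhiskerRight (tensorFlipIso E) _ ≪≫ (Groth.L17.ProjFormula.projIso f N hN).symm ≪≫
          Functor.isoWhiskerLeft _ (tensorFlipIso N).symm) ≪≫ (Functor.associator _ _ _).symm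
  obtain ⟨d2⟩ := Groth.L10.Restr.nonempty_rightDerived_exact_comp (tensorRightF E)
    (fun I hI => haveI := hI; Groth.L17.Duality.injective_tensorRight E hE I) P M p
  exact ⟨d2.symm ≪≫ (Groth.L10.SiteCoh.rightDerivedCongr e2 p).app M ≪≫
    Groth.L10.SiteCoh.rightDerivedCompIso P (tensorRightF N) p M⟩

theorem nonempty_tensor_locFree (f : X ⟶ Y) (F G L : X.Modules) (N : Y.Modules)
    (hL : FlatMod.IsFinLocFree L) (hN : FlatMod.IsFinLocFree N) (p : ℕ)
    [ModSite.HasSheafHom (O := X.sheaf) F] [ModSite.HasSheafHom (O := X.sheaf) L]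
    [ModSite.HasSheafHom (O := X.sheaf) (CohB1.tensorMod F L)] [HasInjectiveResolutions (ModSite.Mod X.sheaf)]
    [(ModSite.sheafHom (O := X.sheaf) F ⋙ Scheme.Modules.pushforward f).Additive]
    [(ModSite.sheafHom (O := X.sheaf) (CohB1.tensorMod F L) ⋙ Scheme.Modules.pushforward f).Additive] :
    Nonempty (((ModSite.sheafHom (O := X.sheaf) (CohB1.tensorMod F L) ⋙ Scheme.Modules.pushforward f).rightDerived p).obj
        (CohB1.tensorMod G ((Scheme.Modules.pullback f).obj N)) ≅
      CohB1.tensorMod (((ModSite.sheafHom (O := X.sheaf) F ⋙ Scheme.Modules.pushforward f).rightDerived p).obj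
        (CohB1.tensorMod G ((ModSite.sheafHom (O := X.sheaf) L).obj (Coh.structureModule X)))) N) := by
  haveI : HasInjectiveResolutions X.Modules := ‹HasInjectiveResolutions (ModSite.Mod X.sheaf)›
  haveI := Groth.L17.Duality.hasSheafHom (CohB1.tensorMod L F)
  let E := (Scheme.Modules.pullback f).obj N
  have hE : FlatMod.IsFinLocFree E := Groth.L29.LocFree.pullback f hN
  haveI := Groth.L17.Duality.hasSheafHom E
  let D := dual L
  have hD : FlatMod.IsFinLocFree D := Groth.L20.ResDescent.isFinLocFree_dual L hL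
  haveI := Groth.L17.Duality.hasSheafHom D
  let P := homMod F ⋙ Scheme.Modules.pushforward f
  haveI : P.Additive := ‹(ModSite.sheafHom (O := X.sheaf) F ⋙ Scheme.Modules.pushforward f).Additive›
  obtain ⟨hD1, hD2⟩ := preservesFinite_tensorRight D hD
  obtain ⟨hE1, hE2⟩ := preservesFinite_tensorRight E hE
  obtain ⟨hN1, hN2⟩ := preservesFinite_tensorRight N hN
  -- Hom(F ⊗ L, -) = Hom(F, - ⊗ D)
  let e1 : homMod (CohB1.tensorMod F L) ⋙ Scheme.Modules.pushforward f ≅ tensorRightF D ⋙ P :=
    Functor.isoWhiskerRight (Groth.L17.Duality.homCongr (tensorComm F L) ≪≫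
      (Groth.L17.Duality.homTensorIso F L).symm ≪≫
      Functor.isoWhiskerRight (Groth.L17.Duality.tensorDualIso L hL).symm (homMod F)) _ ≪≫ Functor.associator _ _ _
  let e2 : tensorRightF E ⋙ P ≅ P ⋙ tensorRightF N :=
    (Functor.associator _ _ _).symm ≪≫ Functor.isoWhiskerRight (homTwistIso F E hE) _ ≪≫ Functor.associator _ _ _ ≪≫
      Functor.isoWhiskerLeft (homMod F)
        (Functor.isoWhiskerRight (tensorFlipIso E) _ ≪≫ (Groth.L17.ProjFormula.projIso f N hN).symm ≪≫
          Functor.isoWhiskerLeft _ (tensorFlipIso N).symm) ≪≫ (Functor.associator _ _ _).symm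
  obtain ⟨d1⟩ := Groth.L10.Restr.nonempty_rightDerived_exact_comp (tensorRightF D)
    (fun I hI => haveI := hI; Groth.L17.Duality.injective_tensorRight D hD I) P (CohB1.tensorMod G E) p
  obtain ⟨d2⟩ := Groth.L10.Restr.nonempty_rightDerived_exact_comp (tensorRightF E)
    (fun I hI => haveI := hI; Groth.L17.Duality.injective_tensorRight E hE I) P (CohB1.tensorMod G D) p
  let perm : (tensorRightF D).obj (CohB1.tensorMod G E) ≅ (tensorRightF E).obj (CohB1.tensorMod G D) :=
    tensorAssoc G E D ≪≫ tensorIso (Iso.refl G) (tensorComm E D) ≪≫ (tensorAssoc G D E).symm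
  exact ⟨(Groth.L10.SiteCoh.rightDerivedCongr e1 p).app _ ≪≫ d1 ≪≫ (P.rightDerived p).mapIso perm ≪≫ d2.symm ≪≫
    (Groth.L10.SiteCoh.rightDerivedCongr e2 p).app _ ≪≫
    Groth.L10.SiteCoh.rightDerivedCompIso P (tensorRightF N) p _⟩

end Groth.L16.RelExt
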