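import Groth.Agent.L29.DCoh.ExtZero
import Groth.Agent.L17.PushQCoh
import Groth.Agent.L17.Duality
import Groth.Agent.L10.RestrExact
import Groth.Agent.L10.SiteRightDerived

/-!
# Relative Ext sheaves commute with restriction to opens of the base
-/

set_option autoImplicit false
set_option backward.isDefEq.respectTransparency false
set_option linter.style.haveILetI false
universe u

open CategoryTheory CategoryTheory.Limits AlgebraicGeometry

noncomputable section

namespace Groth.L16.RelExt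

open Groth.L00.Tensor (tensorRightF tensorMap)
open Groth.L17.ChangeRings (homMod tensorRightBiIso)
open Groth.L29.DC.ExtZero (res projIso projIso_natural)

variable {U X : Scheme.{u}}

/-- Sheaf homs commute with restriction to opens. -/
def homResIso (j : U ⟶ X) [IsOpenImmersion j] (F : X.Modules) [ModSite.HasSheafHom (O := X.sheaf) F]
    [ModSite.HasSheafHom (O := U.sheaf) ((res j).obj F)] :
    homMod F ⋙ res j ≅ res j ⋙ homMod ((res j).obj F) :=
  let r := (ModSite.sheafHomAdj (O := X.sheaf) F).ofNatIsoLeft (tensorRightBiIso F).symm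
  let r' := (ModSite.sheafHomAdj (O := U.sheaf) ((res j).obj F)).ofNatIsoLeft (tensorRightBiIso ((res j).obj F)).symm
  let a := CxOX.extZeroAdj j
  let e : CxOX.extZero j ⋙ tensorRightF F ≅ tensorRightF ((res j).obj F) ⋙ CxOX.extZero j :=
    NatIso.ofComponents (fun A => projIso j A F) (fun {A B} g => by
      refine (projIso_natural j g (𝟙 F)).trans ?_
      rw [CategoryTheory.Functor.map_id]
      rfl)
  ((a.comp r).ofNatIsoLeft e).rightAdjointUniq (r'.comp a)

variable {Y : Scheme.{u}}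

theorem nonempty_restrict (f : X ⟶ Y) (W : Y.Opens) (F G : X.Modules) (p : ℕ)
    [ModSite.HasSheafHom (O := X.sheaf) F] [HasInjectiveResolutions (ModSite.Mod X.sheaf)]
    [(ModSite.sheafHom (O := X.sheaf) F ⋙ Scheme.Modules.pushforward f).Additive]
    [ModSite.HasSheafHom (O := (↑(f ⁻¹ᵁ W) : Scheme.{u}).sheaf) (F.restrict (f ⁻¹ᵁ W).ι)]
    [HasInjectiveResolutions (ModSite.Mod (↑(f ⁻¹ᵁ W) : Scheme.{u}).sheaf)]
    [(ModSite.sheafHom (O := (↑(f ⁻¹ᵁ W) : Scheme.{u}).sheaf) (F.restrict (f ⁻¹ᵁ W).ι) ⋙ Scheme.Modules.pushforward (f ∣_ W)).Additive] :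
    Nonempty ((Scheme.Modules.restrictFunctor W.ι).obj (((ModSite.sheafHom (O := X.sheaf) F ⋙ Scheme.Modules.pushforward f).rightDerived p).obj G) ≅
      ((ModSite.sheafHom (O := (↑(f ⁻¹ᵁ W) : Scheme.{u}).sheaf) (F.restrict (f ⁻¹ᵁ W).ι) ⋙ Scheme.Modules.pushforward (f ∣_ W)).rightDerived p).obj
        (G.restrict (f ⁻¹ᵁ W).ι)) := by
  haveI : HasInjectiveResolutions X.Modules := ‹HasInjectiveResolutions (ModSite.Mod X.sheaf)›
  haveI : HasInjectiveResolutions (↑(f ⁻¹ᵁ W) : Scheme.{u}).Modules :=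
    ‹HasInjectiveResolutions (ModSite.Mod (↑(f ⁻¹ᵁ W) : Scheme.{u}).sheaf)›
  let j := (f ⁻¹ᵁ W).ι
  let T := homMod F ⋙ Scheme.Modules.pushforward f
  let T' := homMod ((res j).obj F) ⋙ Scheme.Modules.pushforward (f ∣_ W)
  haveI : T.Additive := ‹(ModSite.sheafHom (O := X.sheaf) F ⋙ Scheme.Modules.pushforward f).Additive›
  haveI : T'.Additive :=
    ‹(ModSite.sheafHom (O := (↑(f ⁻¹ᵁ W) : Scheme.{u}).sheaf) (F.restrict (f ⁻¹ᵁ W).ι) ⋙ Scheme.Modules.pushforward (f ∣_ W)).Additive›
  have hA : ∀ I : X.Modules, Injective I → Injective ((res j).obj I) := fun I hI => by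
    haveI := Groth.L29.DC.ExtZero.preservesFiniteLimits j
    haveI : (CxOX.extZero j).PreservesMonomorphisms := inferInstance
    exact (CxOX.extZeroAdj j).map_injective I hI
  obtain ⟨d⟩ := Groth.L10.Restr.nonempty_rightDerived_exact_comp (res j) hA T' G p
  let c : T ⋙ res W.ι ≅ res j ⋙ T' :=
    Functor.associator _ _ _ ≪≫
      Functor.isoWhiskerLeft (homMod F) (Groth.L17.PushQCoh.pushRestrictIso f W.ι j (f ∣_ W)
        (by simp [j]) (morphismRestrict_ι f W)) ≪≫
      (Functor.associator _ _ _).symm ≪≫ Functor.isoWhiskerRight (homResIso j F) _ ≪≫ Functor.associator _ _ _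
  exact ⟨(Groth.L10.SiteCoh.rightDerivedCompIso T (res W.ι) p G).symm ≪≫
    (Groth.L10.SiteCoh.rightDerivedCongr c p).app G ≪≫ d⟩

end Groth.L16.RelExt
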