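import Groth.Agent.L16.RelExt.AcyclicComp
import Groth.Agent.L16.RelExt.LocFree
import Groth.Agent.L16.RelExt.Coherence
import Groth.Agent.L16.Rees.RelVanish
import Groth.Agent.L18.VeryAmpleOver
import Groth.Agent.L17.Strat.Poly
import Groth.Agent.L16.Existence.Vanishing
import Groth.Agent.L18.AmplePull
import Groth.Agent.L18.AmpleOps
import Groth.Agent.L12.PushFree.Twists

/-!
# Direct images of relative Ext sheaves of high twists
-/

set_option autoImplicit false
set_option backward.isDefEq.respectTransparency false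
set_option linter.style.haveILetI false
universe u

open CategoryTheory CategoryTheory.Limits AlgebraicGeometry

noncomputable section

namespace Groth.L16.RelExt

open Groth.L17.ChangeRings (homMod)

theorem exists_twist_iso (Z : Scheme.{u}) [IsNoetherian Z] (m : ℕ)
    (Y : Scheme.{u}) (g : Y ⟶ Z) (e' : Y ⟶ CohB1.ProjSpaceOver m Z) [IsClosedImmersion e']
    (he' : e' ≫ CohB1.ProjSpaceOver.toBase m Z = g)
    (X : Scheme.{u}) (f : X ⟶ Y) [IsProper f]
    (F G : X.Modules) (hF : Coh.IsCoh F) (hG : Coh.IsCoh G) (p : ℕ)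
    [ModSite.HasSheafHom (O := X.sheaf) F] [HasInjectiveResolutions (ModSite.Mod X.sheaf)]
    [(ModSite.sheafHom (O := X.sheaf) F ⋙ Scheme.Modules.pushforward f).Additive]
    [(ModSite.sheafHom (O := X.sheaf) F ⋙ Scheme.Modules.pushforward (f ≫ g)).Additive] :
    ∃ l₀ : ℕ, ∀ l : ℕ, l₀ ≤ l →
      Nonempty ((Scheme.Modules.pushforward g).obj (((ModSite.sheafHom (O := X.sheaf) F ⋙ Scheme.Modules.pushforward f).rightDerived p).obj
          (CohB1.tensorMod G ((Scheme.Modules.pullback f).obj
            ((Scheme.Modules.pullback e').obj (Twist.twistOver m Z (l : ℤ)))))) ≅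
        ((ModSite.sheafHom (O := X.sheaf) F ⋙ Scheme.Modules.pushforward (f ≫ g)).rightDerived p).obj
          (CohB1.tensorMod G ((Scheme.Modules.pullback f).obj
            ((Scheme.Modules.pullback e').obj (Twist.twistOver m Z (l : ℤ)))))) := by
  classical
  haveI : HasInjectiveResolutions X.Modules := ‹HasInjectiveResolutions (ModSite.Mod X.sheaf)›
  haveI := Groth.L16.ProjSpace.isProper_toBase (n := m) (S := Z)
  haveI : IsProper g := he' ▸ inferInstance
  haveI : IsLocallyNoetherian Y := LocallyOfFiniteType.isLocallyNoetherian g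
  haveI := Groth.L17.PushQCoh.hasInjectiveResolutions Y
  let L := (Scheme.Modules.pullback e').obj (Twist.twistOver m Z 1)
  have hL : PicF.IsInvertible L :=
    Groth.L18.Ample.isInvertible_pullback e' (Groth.L17.Strat.isInvertible_twistOver m Z 1)
  haveI : QuasiCompact (CohB1.ProjSpaceOver.toBase m Z) := (Groth.L18.VeryAmpleOver.isRelAmple_twistOver m Z).1
  have hamp : RelAmple.IsRelAmple g L := he' ▸
    Groth.L18.Ample.isRelAmple_pullback_of_isInducing (CohB1.ProjSpaceOver.toBase m Z) e'
      e'.isClosedEmbedding.isInducing (Groth.L18.VeryAmpleOver.isRelAmple_twistOver m Z)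
  let P := homMod F ⋙ Scheme.Modules.pushforward f
  haveI : P.Additive := ‹(ModSite.sheafHom (O := X.sheaf) F ⋙ Scheme.Modules.pushforward f).Additive›
  choose n hn using fun q : ℕ => Groth.L16.Rees.RelVanish.exists_isZero_of_relAmple g L hL
    (fun W hW => hamp.2 ⟨W, hW⟩) ((P.rightDerived q).obj G) (isCoh_relExt f F G hF hG q)
  refine ⟨(Finset.range (p + 1)).sup n, fun l hl => ?_⟩
  let N := (Scheme.Modules.pullback e').obj (Twist.twistOver m Z (l : ℤ))
  have hN : FlatMod.IsFinLocFree N := Groth.L16.Existence.isFinLocFree_of_isInvertible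
    (Groth.L18.Ample.isInvertible_pullback e' (Groth.L17.Strat.isInvertible_twistOver m Z (l : ℤ)))
  obtain ⟨t⟩ := Groth.L12.PushFree.nonempty_OT_one_pow m Z l
  let eN : N ≅ CohB1.tensorPow L l :=
    (Scheme.Modules.pullback e').mapIso t.symm ≪≫ Groth.L18.Ample.pullPow e' _ l
  let M := CohB1.tensorMod G ((Scheme.Modules.pullback f).obj N)
  let S := Scheme.Modules.pushforward g
  haveI : S.IsRightAdjoint := (Scheme.Modules.pullbackPushforwardAdjunction g).isRightAdjoint
  haveI : S.Additive := (Scheme.Modules.pullbackPushforwardAdjunction g).right_adjoint_additive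
  haveI : (Scheme.Modules.pushforward f).IsRightAdjoint :=
    (Scheme.Modules.pullbackPushforwardAdjunction f).isRightAdjoint
  haveI : (homMod F).IsRightAdjoint := (ModSite.sheafHomAdj (O := X.sheaf) F).isRightAdjoint
  haveI : EnoughInjectives X.Modules :=
    haveI := Groth.L00.Tensor.grothendieckAbelian_modules X
    inferInstance
  haveI : EnoughInjectives Y.Modules :=
    haveI := Groth.L00.Tensor.grothendieckAbelian_modules Y
    inferInstance
  haveI : PreservesFiniteLimits P := inferInstance
  obtain ⟨e⟩ := AcyclicComp.nonempty_iso P S (fun I hI q hq => by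
    obtain ⟨k, rfl⟩ : ∃ k, q = k + 1 := ⟨q - 1, by omega⟩
    haveI := hI
    exact Groth.L17.PushQCoh.isZero_Rpush_of_flasque g _ (isFlasque_push_homMod f F I) k) p M
    (fun q hq a ha => by
      obtain ⟨π⟩ := nonempty_projection f F G N hN q
      have h := hn q l (le_trans (Finset.le_sup (f := n) (Finset.mem_range.2 (by omega))) hl) a ha
      exact h.of_iso ((S.rightDerived a).mapIso (π ≪≫ Groth.L00.Tensor.tensorIso (Iso.refl _) eN)))
  let c : P ⋙ S ≅ homMod F ⋙ Scheme.Modules.pushforward (f ≫ g) :=
    Functor.associator _ _ _ ≪≫ Functor.isoWhiskerLeft (homMod F) (Scheme.Modules.pushforwardComp f g)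
  haveI : (homMod F ⋙ Scheme.Modules.pushforward (f ≫ g)).Additive :=
    ‹(ModSite.sheafHom (O := X.sheaf) F ⋙ Scheme.Modules.pushforward (f ≫ g)).Additive›
  exact ⟨e.symm ≪≫ (Groth.L10.SiteCoh.rightDerivedCongr c p).app M⟩

end Groth.L16.RelExt
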